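import Cfsg.Agent.H347.HX.D42.Main

/-!
# Involutions of `³D₄(2)` (helper881)

`³D₄(2)` has two classes of involutions, of 819 and 68796 elements; every involution of the second class lies in a
pure elementary abelian subgroup of order 8.  From helper347's class list of `³D₄(2) ≤ ³D₄(2):3` on 819 points.
-/

set_option autoImplicit false
set_option maxRecDepth 100000
set_option Elab.async false

namespace Cfsg.Agent.H881.EX.D42Inv

open Cfsg.Agent.H347.HX Cfsg.Agent.H347.HX.D42

/-! ### A counting lemma -/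

/-- a subset of a normal subgroup avoiding the listed classes -/
theorem card_le_of_disj {G : Type*} [Group G] [Finite G] {K : Subgroup G} (hK : K.Normal) :
    ∀ (L : List (G × ℕ)) (_ : ∀ p ∈ L, p.1 ∈ K)
      (_ : ∀ p ∈ L, Nat.card ↥(Subgroup.centralizer ({p.1} : Set G)) ≤ p.2)
      (_ : (L.map fun p => ConjClasses.mk p.1).Nodup) (S : Set G) (_ : ∀ y ∈ S, y ∈ K)
      (_ : ∀ p ∈ L, ∀ y ∈ S, ¬ IsConj p.1 y),
      S.ncard + (L.map fun p => Nat.card G / p.2).sum ≤ Nat.card K
  | [], _, _, _, S, hS, _ => by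
    rw [List.map_nil, List.sum_nil, add_zero, ← SetLike.coe_sort_coe, Nat.card_coe_set_eq]
    exact Set.ncard_le_ncard hS (Set.toFinite _)
  | q :: L, hm, hc, hd, S, hS, hdis => by
    rw [List.map_cons, List.nodup_cons] at hd
    have hq : Nat.card G / q.2 ≤ {y : G | IsConj q.1 y}.ncard := by
      have h2 := Cfsg.Agent.H235.Ore.ClassList.card_class q.1
      have h3 : Nat.card {y : G // IsConj q.1 y} = {y : G | IsConj q.1 y}.ncard := Nat.card_coe_set_eq _
      rw [← h3]
      have h4 := hc q List.mem_cons_self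
      apply Nat.div_le_of_le_mul
      rw [← h2, mul_comm q.2]
      exact Nat.mul_le_mul_left _ h4
    have hdj : Disjoint S {y : G | IsConj q.1 y} := by
      rw [Set.disjoint_left]
      intro y hy hy'
      exact hdis q List.mem_cons_self y hy hy'
    have ih := card_le_of_disj hK L (fun p hp => hm p (List.mem_cons_of_mem _ hp))
      (fun p hp => hc p (List.mem_cons_of_mem _ hp)) hd.2 (S ∪ {y : G | IsConj q.1 y})
      (by
        rintro y (hy | hy)
        · exact hS y hy
        · obtain ⟨c, rfl⟩ := isConj_iff.1 (show IsConj q.1 y from hy)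
          exact hK.conj_mem _ (hm q List.mem_cons_self) c)
      (by
        rintro p hp y (hy | hy) hpy
        · exact hdis p (List.mem_cons_of_mem _ hp) y hy hpy
        · exact hd.1 (List.mem_map.2 ⟨p, hp,
            ConjClasses.mk_eq_mk_iff_isConj.2 (hpy.trans (show IsConj q.1 y from hy).symm)⟩))
    rw [Set.ncard_union_eq hdj (Set.toFinite _) (Set.toFinite _)] at ih
    rw [List.map_cons, List.sum_cons]
    omega

/-! ### The class list -/

/-- the classes of elements of order at least 3 -/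
noncomputable def rest : List (A × Cl) := lst.drop 3

theorem lst_eq : lst = (ev s [], c0) :: (ev s [3], c1) :: (ev s [0], c2) :: rest := rfl

theorem nodup_lst : (lst.map fun p => ConjClasses.mk p.1).Nodup := by
  have hk : ∀ p ∈ lst, ts.map (cnc 819 co p.2.X) = ts.map (fun t => cn t p.1) := by
    intro p hp
    apply List.map_congr_left
    intro t _
    exact (cn_eq (lst_Rp p hp) t).symm
  have hd := lst_key
  rw [List.map_congr_left hk] at hd
  let φ : ConjClasses A → List ℕ := fun c =>
    Quotient.liftOn c (fun x => ts.map (fun t => cn t x)) fun a b hab => by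
      apply List.map_congr_left
      intro t _
      exact cn_isConj t hab
  have hcomp : (lst.map fun p => ts.map (fun t => cn t p.1)) = (lst.map fun p => ConjClasses.mk p.1).map φ := by
    rw [List.map_map]
    rfl
  rw [hcomp] at hd
  exact List.Nodup.of_map _ hd

theorem cent_lst (p : A × Cl) (hp : p ∈ lst) :
    Nat.card ↥(Subgroup.centralizer ({p.1} : Set A)) ≤ bd p.2.l :=
  Cfsg.Agent.H347.HX.card_le (lst_Rp p hp) hbase (lst_run p hp)

/-- the counting lemma for sublists of the class list -/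
theorem card_le_sub (L : List (A × Cl)) (hL : L.Sublist lst) (S : Set A) (hS : ∀ y ∈ S, y ∈ K)
    (hdis : ∀ p ∈ L, ∀ y ∈ S, ¬ IsConj p.1 y) :
    S.ncard + (L.map fun p => Nat.card A / bd p.2.l).sum ≤ Nat.card K := by
  have hmem : ∀ p ∈ L, p ∈ lst := fun p hp => hL.subset hp
  have h := card_le_of_disj normal_K (L.map fun p => (p.1, bd p.2.l))
    (fun p hp => by obtain ⟨q, hq, rfl⟩ := List.mem_map.1 hp; exact lst_mem q (hmem q hq))
    (fun p hp => by obtain ⟨q, hq, rfl⟩ := List.mem_map.1 hp; exact cent_lst q (hmem q hq))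
    (by
      rw [List.map_map]
      exact (hL.map fun p => ConjClasses.mk p.1).nodup nodup_lst)
    S hS
    (fun p hp y hy => by obtain ⟨q, hq, rfl⟩ := List.mem_map.1 hp; exact hdis q hq y hy)
  rw [List.map_map] at h
  exact h

theorem a1 : 634023936 / bd c1.l = 819 := by decide +kernel

theorem a2 : 634023936 / bd c2.l = 68796 := by decide +kernel

/-- the words of the other classes are not involutions -/
theorem sq_rest : ∀ p ∈ rest, p.1 * p.1 ≠ 1 := by
  intro p hp
  simp only [rest, lst, List.drop_succ_cons, List.drop_zero, List.mem_cons, List.not_mem_nil, or_false] at hp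
  have hh : ∀ (w : List ℕ) (q : Fin 819), Nat.beq (ap fl (w ++ w) q) (ap fl [] q) = false → ev s w * ev s w ≠ 1 := by
    intro w q h
    rw [mulw]
    exact ne_of q h
  rcases hp with rfl | rfl | rfl | rfl | rfl | rfl | rfl | rfl | rfl | rfl | rfl | rfl | rfl | rfl | rfl | rfl | rfl | rfl
  exacts [hh _ 0 (by decide +kernel), hh _ 1 (by decide +kernel), hh _ 1 (by decide +kernel),
    hh _ 2 (by decide +kernel), hh _ 2 (by decide +kernel), hh _ 0 (by decide +kernel),
    hh _ 1 (by decide +kernel), hh _ 0 (by decide +kernel), hh _ 3 (by decide +kernel),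
    hh _ 5 (by decide +kernel), hh _ 1 (by decide +kernel), hh _ 1 (by decide +kernel),
    hh _ 1 (by decide +kernel), hh _ 0 (by decide +kernel), hh _ 3 (by decide +kernel),
    hh _ 0 (by decide +kernel), hh _ 0 (by decide +kernel), hh _ 1 (by decide +kernel)]

theorem not_conj_rest {y : A} (hy : y * y = 1) (p : A × Cl) (hp : p ∈ rest) : ¬ IsConj p.1 y := by
  intro h
  apply sq_rest p hp
  obtain ⟨c, rfl⟩ := isConj_iff.1 h
  have h1 : c * (p.1 * p.1) * c⁻¹ = 1 := by rw [← hy]; group
  have h2 : p.1 * p.1 = c⁻¹ * (c * (p.1 * p.1) * c⁻¹) * c := by group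
  rw [h2, h1]
  group

theorem not_conj_one {y : A} (hy : y ≠ 1) : ¬ IsConj (ev s []) y := by
  intro h
  apply hy
  rw [ev_nil] at h
  exact isConj_one_right.1 h

/-- at most 69615 involutions -/
theorem card_invol (S : Set A) (hS : ∀ y ∈ S, y ∈ K) (h1 : ∀ y ∈ S, y ≠ 1) (h2 : ∀ y ∈ S, y * y = 1) :
    S.ncard ≤ 69615 := by
  have h := card_le_sub ((ev s [], c0) :: rest)
    (by rw [lst_eq]; exact ((List.Sublist.refl rest).cons _ |>.cons _).cons_cons _) S hS
    (by
      intro p hp y hy
      rcases List.mem_cons.1 hp with rfl | hp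
      · exact not_conj_one (h1 y hy)
      · exact not_conj_rest (h2 y hy) p hp)
  have h3 := lst_sum
  rw [lst_eq] at h3
  rw [List.map_cons, List.sum_cons, card_A] at h h3
  rw [List.map_cons, List.sum_cons, List.map_cons, List.sum_cons] at h3
  have e1 := a1
  have e2 := a2
  dsimp only at h h3
  omega

/-- at most 819 elements of the first class -/
theorem card_first : {y : A | IsConj (ev s [3]) y}.ncard ≤ 819 := by
  have hnd := nodup_lst
  rw [lst_eq] at hnd
  have hx : ev s [3] ∈ K := ev_mem _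
  have h := card_le_sub ((ev s [], c0) :: (ev s [0], c2) :: rest)
    (by rw [lst_eq]; exact (((List.Sublist.refl rest).cons_cons _).cons _).cons_cons _) {y : A | IsConj (ev s [3]) y}
    (by
      intro y hy
      obtain ⟨c, rfl⟩ := isConj_iff.1 (show IsConj (ev s [3]) y from hy)
      exact normal_K.conj_mem _ hx c)
    (by
      rw [List.map_cons, List.nodup_cons, List.map_cons, List.nodup_cons] at hnd
      intro p hp y hy hpy
      have hc : ConjClasses.mk p.1 = ConjClasses.mk (ev s [3]) :=
        ConjClasses.mk_eq_mk_iff_isConj.2 (hpy.trans (show IsConj (ev s [3]) y from hy).symm)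
      rcases List.mem_cons.1 hp with rfl | hp
      · apply hnd.1
        rw [hc]
        exact List.mem_cons_self
      · apply hnd.2.1
        show ConjClasses.mk (ev s [3]) ∈ _
        rw [← hc]
        exact List.mem_map.2 ⟨p, hp, rfl⟩)
  have h3 := lst_sum
  rw [lst_eq] at h3
  rw [List.map_cons, List.sum_cons, card_A] at h h3
  rw [List.map_cons, List.sum_cons] at h
  rw [List.map_cons, List.sum_cons, List.map_cons, List.sum_cons] at h3
  have e1 := a1
  have e2 := a2
  dsimp only at h h3
  omega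

/-- the involutions outside the first class -/
theorem second {y : A} (hy : y ∈ K) (h1 : y ≠ 1) (h2 : y * y = 1) (h3 : ¬ IsConj (ev s [3]) y) :
    IsConj gn y := by
  obtain ⟨p, hp, h⟩ := classes hy
  rw [lst_eq] at hp
  rcases List.mem_cons.1 hp with rfl | hp
  · exact absurd h (not_conj_one h1)
  rcases List.mem_cons.1 hp with rfl | hp
  · exact absurd h h3
  rcases List.mem_cons.1 hp with rfl | hp
  · exact h
  · exact absurd h (not_conj_rest h2 p hp)

/-! ### A pure elementary abelian subgroup -/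

/-- its involutions -/
noncomputable def u (i : ℕ) : A := (gd ^ i)⁻¹ * ge * gd ^ i

theorem u_zero : u 0 = ge := by unfold u; rw [pow_zero, inv_one, one_mul, mul_one]

theorem u_add_seven (i k : ℕ) : u (i + 7 * k) = u i := by
  unfold u
  rw [pow_add, pow_mul, relL.d7, one_pow, mul_one]

theorem u_mod (i : ℕ) : u i = u (i % 7) := by
  conv_lhs => rw [← Nat.mod_add_div i 7]
  exact u_add_seven _ _

theorem p1 : ge * u 1 = u 3 := by
  unfold u; simp only [poww, revw, mulw]; exact key (by decide +kernel)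
theorem p2 : ge * u 2 = u 6 := by
  unfold u; simp only [poww, revw, mulw]; exact key (by decide +kernel)
theorem p3 : ge * u 3 = u 1 := by
  unfold u; simp only [poww, revw, mulw]; exact key (by decide +kernel)
theorem p4 : ge * u 4 = u 5 := by
  unfold u; simp only [poww, revw, mulw]; exact key (by decide +kernel)
theorem p5 : ge * u 5 = u 4 := by
  unfold u; simp only [poww, revw, mulw]; exact key (by decide +kernel)
theorem p6 : ge * u 6 = u 2 := by
  unfold u; simp only [poww, revw, mulw]; exact key (by decide +kernel)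

theorem u_sq (i : ℕ) : u i * u i = 1 := by
  have h : u i * u i = (gd ^ i)⁻¹ * (ge * ge) * gd ^ i := by unfold u; group
  rw [h, relL.e2]
  group

theorem ge_mul_u (m : ℕ) : ge * u m = 1 ∨ ∃ k, ge * u m = u k := by
  rw [u_mod]
  have h : m % 7 < 7 := Nat.mod_lt _ (by norm_num)
  generalize m % 7 = r at h
  interval_cases r
  · left; rw [u_zero]; exact relL.e2
  · exact Or.inr ⟨_, p1⟩
  · exact Or.inr ⟨_, p2⟩
  · exact Or.inr ⟨_, p3⟩
  · exact Or.inr ⟨_, p4⟩
  · exact Or.inr ⟨_, p5⟩
  · exact Or.inr ⟨_, p6⟩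

theorem u_mul_u (i j : ℕ) : u i * u j = 1 ∨ ∃ k, u i * u j = u k := by
  have e : u i * u j = (gd ^ i)⁻¹ * (ge * u (j + 6 * i)) * gd ^ i := by
    have e1 : u j = u (j + 7 * i) := (u_add_seven j i).symm
    rw [e1, show j + 7 * i = (j + 6 * i) + i by ring]
    unfold u
    rw [pow_add gd (j + 6 * i) i]
    group
  rw [e]
  rcases ge_mul_u (j + 6 * i) with h | ⟨k, h⟩
  · left; rw [h]; group
  · right
    refine ⟨k + i, ?_⟩
    rw [h]
    unfold u
    rw [pow_add gd k i]
    group

/-- the elementary abelian group -/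
noncomputable def E0 : Subgroup A where
  carrier := {y | y = 1 ∨ ∃ i, y = u i}
  one_mem' := Or.inl rfl
  mul_mem' := by
    rintro a b (rfl | ⟨i, rfl⟩) (rfl | ⟨j, rfl⟩)
    · exact Or.inl (one_mul _)
    · exact Or.inr ⟨j, one_mul _⟩
    · exact Or.inr ⟨i, mul_one _⟩
    · exact u_mul_u i j
  inv_mem' := by
    rintro a (rfl | ⟨i, rfl⟩)
    · exact Or.inl inv_one
    · exact Or.inr ⟨i, inv_eq_of_mul_eq_one_left (u_sq i)⟩

theorem mem_E0 {y : A} : y ∈ E0 ↔ y = 1 ∨ ∃ i, y = u i := Iff.rfl

theorem u_mem (i : ℕ) : u i ∈ K := by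
  unfold u
  exact mul_mem (mul_mem (inv_mem (pow_mem (ev_mem _) _)) (ev_mem _)) (pow_mem (ev_mem _) _)

theorem E0_le : E0 ≤ K := by
  rintro y (rfl | ⟨i, rfl⟩)
  · exact one_mem _
  · exact u_mem i

/-- words of the elements -/
def wE (i : Fin 8) : List ℕ := if (i : ℕ) = 0 then [] else wp [1, 0] (i - 1) ++ [2] ++ wp [0, 1] (i - 1)

theorem ev_wE (i : Fin 8) : ev s (wE i) = if (i : ℕ) = 0 then 1 else u (i - 1) := by
  unfold wE u
  split_ifs with h
  · rfl
  · rw [← mulw, ← mulw, ← poww, ← poww, ← inv_pow, revw]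
    rfl

theorem card_E0 : Nat.card E0 = 8 := by
  have h : (E0 : Set A) = Set.range fun i : Fin 8 => ev s (wE i) := by
    ext y
    rw [SetLike.mem_coe, mem_E0, Set.mem_range]
    constructor
    · rintro (rfl | ⟨i, rfl⟩)
      · exact ⟨0, by rw [ev_wE]; rfl⟩
      · refine ⟨⟨i % 7 + 1, by have := Nat.mod_lt i (show 7 > 0 by norm_num); omega⟩, ?_⟩
        rw [ev_wE, if_neg (Nat.succ_ne_zero _), u_mod i]
        rfl
    · rintro ⟨i, rfl⟩
      rw [ev_wE]
      split_ifs
      · exact Or.inl rfl
      · exact Or.inr ⟨_, rfl⟩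
  rw [← SetLike.coe_sort_coe, h, ← Set.image_univ, Nat.card_coe_set_eq, Set.ncard_image_of_injective]
  · rw [Set.ncard_univ, Nat.card_eq_fintype_card, Fintype.card_fin]
  · intro i j hij
    have h1 := Rp.ev rp_s (wE i) (2 : Fin 819)
    have hij' : ev s (wE i) = ev s (wE j) := hij
    rw [hij', Rp.ev rp_s (wE j) (2 : Fin 819)] at h1
    have h2 : ∀ i j : Fin 8, ap fl (wE j) (2 : Fin 819) = ap fl (wE i) (2 : Fin 819) → i = j := by decide +kernel
    exact h2 i j h1

theorem ge_conj : IsConj gn ge := by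
  rw [isConj_iff]
  refine ⟨ev s [0, 2], ?_⟩
  rw [revw, mulw, mulw]
  exact key (by decide +kernel)

/-! ### The result -/

/-- **Involutions of `³D₄(2)`.** -/
theorem d42_inv {F : Type*} [Field F] [Fintype F] (hF : Fintype.card F = 8) {T : Type*} [Group T]
    (e : T ≃* Lie.twistedD4 F 2) :
    Nat.card {x : T // x ≠ 1 ∧ x * x = 1} ≤ 69615 ∧ ∃ P : T → Prop, Nat.card {x : T // P x} ≤ 819 ∧
      ∀ x, x ≠ 1 → x * x = 1 → ¬ P x → ∃ E : Subgroup T, Nat.card E = 8 ∧ x ∈ E ∧ (∀ y ∈ E, y * y = 1) ∧
        ∀ y ∈ E, y ≠ 1 → IsConj x y := by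
  obtain ⟨φ⟩ := Cfsg.Agent.H347.HX.D42.iso F hF
  let ψ : T ≃* K := e.trans φ.symm
  let f : T →* A := K.subtype.comp ψ.toMonoidHom
  have hf : Function.Injective f := K.subtype_injective.comp ψ.injective
  have hfm : ∀ t, f t ∈ K := fun t => (ψ t).2
  have hfs : ∀ k ∈ K, ∃ t, f t = k := by
    intro k hk
    refine ⟨ψ.symm ⟨k, hk⟩, ?_⟩
    show ((ψ (ψ.symm ⟨k, hk⟩) : K) : A) = k
    rw [MulEquiv.apply_symm_apply]
  have hcard : ∀ (Q : T → Prop) (S : Set A), (∀ t, Q t → f t ∈ S) → Nat.card {x : T // Q x} ≤ S.ncard := by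
    intro Q S h
    rw [← Nat.card_coe_set_eq]
    exact Nat.card_le_card_of_injective (fun x : {x : T // Q x} => (⟨f x, h x x.2⟩ : S)) fun x y hxy =>
      Subtype.ext (hf (show f x = f y from congrArg (fun z : S => (z : A)) hxy))
  have hf1 : ∀ t, t ≠ 1 → f t ≠ 1 := fun t ht h => ht (hf (h.trans (map_one f).symm))
  refine ⟨?_, fun t => IsConj (ev s [3]) (f t), ?_, ?_⟩
  · refine (hcard _ {y : A | y ∈ K ∧ y ≠ 1 ∧ y * y = 1} fun t ht => ⟨hfm t, hf1 t ht.1, ?_⟩).trans
      (card_invol _ (fun y hy => hy.1) (fun y hy => hy.2.1) (fun y hy => hy.2.2))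
    rw [← map_mul, ht.2, map_one]
  · exact (hcard _ {y : A | IsConj (ev s [3]) y} fun t ht => ht).trans card_first
  · intro x hx1 hx2 hxP
    have hc : IsConj ge (f x) := ge_conj.symm.trans
      (second (hfm x) (hf1 x hx1) (by rw [← map_mul, hx2, map_one]) hxP)
    obtain ⟨g, hg⟩ := isConj_iff.1 hc
    let h : T →* A := (MulAut.conj g⁻¹).toMonoidHom.comp f
    have hh : ∀ t, h t = g⁻¹ * f t * g := by
      intro t
      show g⁻¹ * f t * (g⁻¹)⁻¹ = _
      rw [inv_inv]
    have hinj : Function.Injective h := (MulAut.conj g⁻¹).injective.comp hf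
    have hsur : ∀ k ∈ K, ∃ t, h t = k := by
      intro k hk
      obtain ⟨t, ht⟩ := hfs (g * k * g⁻¹) (normal_K.conj_mem _ hk g)
      refine ⟨t, ?_⟩
      rw [hh, ht]
      group
    have hx : h x = ge := by rw [hh, ← hg]; group
    refine ⟨E0.comap h, ?_, ?_, ?_, ?_⟩
    · have hmap : (E0.comap h).map h = E0 := by
        apply le_antisymm (Subgroup.map_comap_le _ _)
        intro y hy
        obtain ⟨t, rfl⟩ := hsur y (E0_le hy)
        exact Subgroup.mem_map_of_mem h (Subgroup.mem_comap.2 hy)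
      rw [← card_E0]
      conv_rhs => rw [← hmap]
      exact Nat.card_congr ((E0.comap h).equivMapOfInjective h hinj).toEquiv
    · rw [Subgroup.mem_comap, hx]
      exact Or.inr ⟨0, u_zero.symm⟩
    · intro y hy
      apply hinj
      rw [map_mul, map_one]
      rcases hy with hy | ⟨i, hy⟩
      · rw [show h y = 1 from hy, one_mul]
      · rw [show h y = u i from hy, u_sq]
    · intro y hy hy1
      rcases hy with hy | ⟨i, hy⟩
      · exact absurd (hinj ((show h y = 1 from hy).trans (map_one h).symm)) hy1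
      · obtain ⟨c, hc⟩ := hsur (gd ^ i)⁻¹ (inv_mem (pow_mem (ev_mem _) _))
        rw [isConj_iff]
        refine ⟨c, hinj ?_⟩
        rw [map_mul, map_mul, map_inv, hc, hx, show h y = u i from hy, inv_inv]
        rfl

end Cfsg.Agent.H881.EX.D42Inv
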